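import Mathlib
import Cfsg.Agent.Helper17.SuzP1TC.Orb
import Cfsg.Agent.Helper17.SuzOrd.Upper

/-! Upper bound for the order of the sub-presentation `SuzP1` (`G₂(4)`) of the Suzuki group, read
off the chain of coset enumerations used for `Suz` itself. -/

set_option autoImplicit false
set_option linter.all false

noncomputable section

namespace Cfsg.Agent.Helper17.SuzP1Ord

open Cfsg.Spor Cfsg.Agent.Helper17.SuzSub

theorem card_Hs_dvd : Nat.card SuzP1TC.Hs ∣ 604800 := by
  have h3 := SuzOrd.card_dvd_step SuzOrd.phi3 SuzP2TC.Hs SuzOrd.range3 SuzP3TC.Hs 1080 2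
    SuzOrd.idx3 SuzOrd.card_bot
  have h2 := SuzOrd.card_dvd_step SuzOrd.phi2 SuzP1TC.Hs SuzOrd.range2 SuzP2TC.Hs 280 _
    SuzOrd.idx2 h3
  exact h2

theorem idxTop : SuzP1TC.Hs.index = 416 := SuzOrd.idx1

theorem card_G_eq : Nat.card SuzP1TC.G = Nat.card SuzP1TC.Hs * 416 := by
  rw [← idxTop, Subgroup.card_mul_index]

theorem card_G_dvd : Nat.card SuzP1TC.G ∣ 251596800 := by
  rw [card_G_eq]
  exact (Nat.mul_dvd_mul_right card_Hs_dvd 416).trans (by norm_num)

end Cfsg.Agent.Helper17.SuzP1Ord
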